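import Mathlib.AlgebraicGeometry.AffineTransitionLimit
import Mathlib.AlgebraicGeometry.Morphisms.Finite
import Mathlib.AlgebraicGeometry.Morphisms.Integral

/-!
# Limits of finite schemes are integral over the base
-/

set_option autoImplicit false
set_option linter.style.haveILetI false
set_option backward.isDefEq.respectTransparency false
set_option backward.isDefEq.respectTransparency.types false

universe u

open CategoryTheory CategoryTheory.Limits AlgebraicGeometry Opposite

namespace Groth.Agent.EtTrDeg11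

variable {S : Scheme.{u}} {J : Type u} [SmallCategory J] [IsCofiltered J] (E : J ⥤ Scheme.{u}) (c : Cone E)
  (hc : IsLimit c) (b : ∀ j, E.obj j ⟶ S) [∀ j, IsFinite (b j)]
  (hb : ∀ {i j} (f : i ⟶ j), E.map f ≫ b j = b i)

include hc hb in
theorem isIntegralHom_of_isLimit_finite (i : J) : IsIntegralHom (c.π.app i ≫ b i) := by
  let p := c.π.app i ≫ b i
  refine IsZariskiLocalAtTarget.of_iSup_eq_top (P := @IsIntegralHom) (fun U : S.affineOpens => U.1)
    (iSup_affineOpens_eq_top S) fun U => ?_
  haveI : IsAffine (U.1 : Scheme.{u}) := U.2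
  haveI hE : ∀ {j k} (f : j ⟶ k), IsAffineHom (E.map f) := fun {j k} f => by
    haveI : IsAffineHom (E.map f ≫ b k) := by rw [hb f]; infer_instance
    exact IsAffineHom.of_comp (E.map f) (b k)
  let V : (E.obj i).Opens := b i ⁻¹ᵁ U.1
  haveI hA : ∀ j, IsAffine ((opensDiagram E i V).obj j) := fun j =>
    ((U.2.preimage (b i)).preimage (E.map j.hom))
  haveI : IsAffine (opensCone E c i V).pt := Scheme.isAffine_of_isLimit _ (isLimitOpensCone E c hc i V)
  have hpre : ∀ j : Over i, E.map j.hom ⁻¹ᵁ V = b j.left ⁻¹ᵁ U.1 := fun j => by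
    rw [← hb j.hom]; rfl
  let bj : ∀ j : Over i, (opensDiagram E i V).obj j ⟶ (U.1 : Scheme.{u}) := fun j =>
    ((E.obj j.left).isoOfEq (hpre j)).hom ≫ (b j.left ∣_ U.1)
  haveI : ∀ j, IsFinite (bj j) := fun j => inferInstanceAs (IsFinite (_ ≫ _))
  have hp : ∀ j, p ∣_ U.1 = (opensCone E c i V).π.app j ≫ bj j := fun j => by
    rw [← cancel_mono U.1.ι, morphismRestrict_ι]
    show _ = ((c.π.app j.left).resLE _ _ _ ≫ (Scheme.isoOfEq _ (hpre j)).hom ≫ (b j.left ∣_ U.1)) ≫ U.1.ι
    rw [Category.assoc, Category.assoc, morphismRestrict_ι, Scheme.isoOfEq_hom_ι_assoc, Scheme.Hom.resLE_comp_ι_assoc,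
      ← hb j.hom, ← Category.assoc (c.π.app j.left), c.w]
  refine (HasAffineProperty.iff_of_isAffine (P := @IsIntegralHom)).2
    ⟨(inferInstanceAs (IsAffine (opensCone E c i V).pt) : IsAffine (p ⁻¹ᵁ U.1 : Scheme.{u})), fun x => ?_⟩
  haveI : ∀ {j k} (f : j ⟶ k), IsAffineHom ((opensDiagram E i V).map f) := fun f => inferInstance
  obtain ⟨j, y, rfl⟩ := exists_appTop_π_eq_of_isAffine_of_isLimit (opensDiagram E i V) (opensCone E c i V)
    (isLimitOpensCone E c hc i V) x
  have hy : (bj j).appTop.hom.IsIntegralElem y :=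
    ((HasAffineProperty.iff_of_isAffine (P := @IsIntegralHom)).1 (inferInstance : IsIntegralHom (bj j))).2 y
  have := hy.map (g := ((opensCone E c i V).π.app j).appTop.hom)
  have e : (p ∣_ U.1).appTop.hom = ((opensCone E c i V).π.app j).appTop.hom.comp (bj j).appTop.hom := by
    rw [hp j]; rfl
  exact (congrArg (fun r => RingHom.IsIntegralElem r (((opensCone E c i V).π.app j).appTop y)) e).mpr this

end Groth.Agent.EtTrDeg11
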