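import Groth.Agent.EtTrace.Torsion
import Groth.Agent.EtFound.PullStalk

/-!
# Sheaves whose sections are locally killed by powers of `ℓ`
-/

set_option autoImplicit false
set_option linter.style.haveILetI false
set_option backward.isDefEq.respectTransparency false
set_option backward.isDefEq.respectTransparency.types false

universe u

open CategoryTheory CategoryTheory.Limits AlgebraicGeometry Opposite CategoryTheory.Abelian

namespace Groth.Agent.EtTrDeg11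

open Groth.Agent.EtFound Groth.Agent.EtTrace

variable {X Y : Scheme.{u}} (ℓ : ℕ)

/-- sections are locally killed by powers of `ℓ` -/
def LocPow (G : EtCoh.Ab X) : Prop :=
  ∀ (U : X.Etale) (s : EtCoh.sect G U) (y : ↥U.left), ∃ (V : X.Etale) (φ : V ⟶ U),
    (∃ v : ↥V.left, φ.left.base v = y) ∧ ∃ m : ℕ, (ℓ ^ m) • G.obj.map φ.op s = 0

theorem stalk_killed {G : EtCoh.Ab X} (hG : LocPow ℓ G) {Ω : Type u} [Field Ω] [IsSepClosed Ω]
    (ξ : Spec (CommRingCat.of Ω) ⟶ X) (a : (EtCoh.stalk ξ).obj G) : ∃ m : ℕ, (ℓ ^ m) • a = 0 := by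
  obtain ⟨U, u₀, s, rfl⟩ := (Scheme.pointSmallEtale ξ).toPresheafFiber_jointly_surjective a
  obtain ⟨V, φ, ⟨v, hv⟩, m, hm⟩ := hG U s
    ((u₀.left : Spec (CommRingCat.of Ω) ⟶ U.left).base (default : Spec (CommRingCat.of Ω)))
  obtain ⟨v', hv', -⟩ := EtFound.exists_lift_point φ u₀ v hv
  refine ⟨m, ?_⟩
  rw [← hv']
  refine (map_nsmul ((Scheme.pointSmallEtale ξ).toPresheafFiber U _ G.obj).hom (ℓ ^ m) s).symm.trans ?_
  refine ((Scheme.pointSmallEtale ξ).toPresheafFiber_w_apply φ v' G.obj _).symm.trans ?_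
  refine (congrArg ((Scheme.pointSmallEtale ξ).toPresheafFiber V v' G.obj) ?_).trans (map_zero _)
  exact (map_nsmul _ _ _).trans hm

theorem locPow_of_stalks {G : EtCoh.Ab X}
    (h : ∀ (Ω : Type u) [Field Ω] [IsSepClosed Ω] (ξ : Spec (CommRingCat.of Ω) ⟶ X) (a : (EtCoh.stalk ξ).obj G),
      ∃ m : ℕ, (ℓ ^ m) • a = 0) : LocPow ℓ G := by
  intro U s y
  obtain ⟨Ω, _, _, ξ, u₀, hu⟩ := exists_point_through U y
  obtain ⟨m, hm⟩ := h Ω ξ ((Scheme.pointSmallEtale ξ).toPresheafFiber U u₀ G.obj s)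
  have e : (Scheme.pointSmallEtale ξ).toPresheafFiber U u₀ G.obj ((ℓ ^ m) • s) =
      (Scheme.pointSmallEtale ξ).toPresheafFiber U u₀ G.obj 0 :=
    ((map_nsmul _ _ _).trans hm).trans (map_zero _).symm
  obtain ⟨V, f, v, hv, hf⟩ := ((Scheme.pointSmallEtale ξ).toPresheafFiber_eq_iff' U u₀ _ _).1 e
  refine ⟨V, f, ⟨(v.left : Spec (CommRingCat.of Ω) ⟶ V.left).base (default : Spec (CommRingCat.of Ω)), ?_⟩, m, ?_⟩
  · subst hv
    exact hu (default : Spec (CommRingCat.of Ω))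
  · exact ((map_nsmul _ _ _).symm.trans hf).trans (map_zero _)

theorem locPow_pull {G : EtCoh.Ab X} (hG : LocPow ℓ G) (f : Y ⟶ X) [EtCoh.BCCont f] :
    LocPow ℓ ((EtCoh.pull f).obj G) := by
  refine locPow_of_stalks ℓ fun Ω _ _ ξ a => ?_
  let e := ((stalkPullIso f ξ).app G).addCommGroupIsoToAddEquiv
  obtain ⟨m, hm⟩ := stalk_killed ℓ hG (ξ ≫ f) (e a)
  exact ⟨m, e.injective ((map_nsmul e _ _).trans (hm.trans (map_zero e).symm))⟩

theorem isIso_nsmul {G : EtCoh.Ab X} (hG : LocPow ℓ G) (d : ℕ) (hd : Nat.Coprime ℓ d) : IsIso (d • 𝟙 G) := by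
  refine (isIso_iff_stalks _).2 fun Ω _ _ ξ => ?_
  haveI : (EtCoh.stalk ξ).Additive := Functor.additive_of_preserves_binary_products _
  have e : (EtCoh.stalk ξ).map (d • 𝟙 G) = d • 𝟙 _ := by rw [Functor.map_nsmul, CategoryTheory.Functor.map_id]
  rw [e, ConcreteCategory.isIso_iff_bijective]
  have key : ∀ a : (EtCoh.stalk ξ).obj G, (d • 𝟙 ((EtCoh.stalk ξ).obj G)) a = d • a := fun a => rfl
  have hb : ∀ a : (EtCoh.stalk ξ).obj G, ∃ b, d • b = a ∧ ((d • a = 0) → a = 0) := fun a => by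
    obtain ⟨m, hm⟩ := stalk_killed ℓ hG ξ a
    obtain ⟨r, hr⟩ : ∃ r : ℕ, d • (r • a) = a := by
      have hcop : Nat.Coprime d (addOrderOf a) :=
        Nat.Coprime.coprime_dvd_right (addOrderOf_dvd_of_nsmul_eq_zero hm) (hd.symm.pow_right m)
      obtain ⟨r, hr⟩ := exists_nsmul_eq_self_of_coprime hcop
      exact ⟨r, by rw [← mul_nsmul, mul_comm, mul_nsmul]; exact hr⟩
    refine ⟨r • a, hr, fun h0 => ?_⟩
    rw [← hr, smul_comm, h0, smul_zero]
  refine ⟨fun a b hab => sub_eq_zero.1 ((hb (a - b)).choose_spec.2 ?_), fun a => ⟨_, (key _).trans (hb a).choose_spec.1⟩⟩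
  rw [nsmul_sub, ← key, ← key, hab, sub_self]

/-- coprime multiples of classes are injective -/
theorem eq_zero_of_nsmul {G : EtCoh.Ab X} (hG : LocPow ℓ G) (d : ℕ) (hd : Nat.Coprime ℓ d) (n : ℕ)
    (x : EtCoh.H X G n) (hx : d • x = 0) : x = 0 := by
  haveI := isIso_nsmul ℓ hG d hd
  have h0 : x.comp (Ext.mk₀ (d • 𝟙 G)) (add_zero n) = 0 := by
    rw [EtTrace.nsmul_eq_comp] at hx
    exact hx
  have := congrArg (fun y => y.comp (Ext.mk₀ (inv (d • 𝟙 G))) (add_zero n)) h0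
  simpa [Ext.comp_assoc_of_third_deg_zero] using this

theorem locPow_push (f : Y ⟶ X) [QuasiCompact f] [QuasiSeparated f] {F : EtCoh.Ab Y} (hF : LocPow ℓ F) :
    LocPow ℓ ((EtCoh.push f).obj F) := by
  intro U s y
  obtain ⟨V, g, hv, -, hW⟩ := exists_qc_nhd f U y
  let W := (EtCoh.bc f).obj V
  haveI : CompactSpace W.left := hW.1
  let s' : F.obj.obj (op W) := ((EtCoh.push f).obj F).obj.map g.op s
  choose T φ hw m hm using fun w => hF W s' w
  let O : W.left → Set W.left := fun w => Set.range (φ w).left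
  have hO : ∀ w, IsOpen (O w) := fun w => by
    haveI := etale_left (φ w)
    exact (φ w).left.isOpenMap.isOpen_range
  obtain ⟨t, ht⟩ := (isCompact_univ (X := W.left)).elim_finite_subcover O hO
    fun w _ => Set.mem_iUnion.2 ⟨w, hw w⟩
  refine ⟨V, g, hv, t.sup m, ?_⟩
  show (ℓ ^ t.sup m) • s' = 0
  refine eq_of_cover (A := AddCommGrpCat.{u + 1}) F _ _ ?_
  rw [mem_topology_iff]
  intro w
  obtain ⟨i, hi, hwi⟩ : ∃ i ∈ t, w ∈ O i := by simpa [Set.mem_iUnion] using ht (Set.mem_univ w)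
  obtain ⟨z, hz⟩ := hwi
  refine ⟨T i, φ i, z, ?_, hz⟩
  show F.obj.map (φ i).op _ = F.obj.map (φ i).op 0
  rw [map_zero, map_nsmul]
  obtain ⟨e, he⟩ := Nat.exists_eq_add_of_le (Finset.le_sup (f := m) hi)
  rw [he, pow_add, mul_nsmul, hm, nsmul_zero]

end Groth.Agent.EtTrDeg11
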