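import Groth.Agent.EtTrDeg11.Split
import Groth.Agent.EtTrDeg11.Torsion
import Groth.Agent.EtTrDeg11.LimitInt
import Groth.Agent.EtLimit.Const
import Groth.Agent.EtFound.PushExact
import Groth.Agent.BigSiteLib.HofPushEt
import Groth.Agent.CohCrit13.Formal

/-!
# Cohomology along a pro-(finite étale of degree prime to `ℓ`) cover
-/

set_option autoImplicit false
set_option linter.style.haveILetI false
set_option backward.isDefEq.respectTransparency false
set_option backward.isDefEq.respectTransparency.types false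

universe u

open CategoryTheory CategoryTheory.Limits AlgebraicGeometry Opposite CategoryTheory.Abelian

namespace Groth.Agent.EtTrDeg11

open Groth.Agent.EtFound Groth.Agent.EtLimit

theorem hThen_id {X Y : Scheme.{u}} (f : X ⟶ Y) [PreservesFiniteLimits (EtCoh.pull f)] (F : EtCoh.Ab Y) (n : ℕ)
    (x : EtCoh.H Y F n) : hThen f F (𝟙 ((EtCoh.pull f).obj F)) n x = EtCore.Hpull f F n x :=
  ConcreteCategory.congr_hom ((EtCoh.HF X n).map_id _) _

theorem hThen_Hpull {X Y Z : Scheme.{u}} (v : X ⟶ Y) (u : Y ⟶ Z) (w : X ⟶ Z) (hw : v ≫ u = w)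
    [PreservesFiniteLimits (EtCoh.pull v)] [PreservesFiniteLimits (EtCoh.pull u)]
    [PreservesFiniteLimits (EtCoh.pull w)] (F : EtCoh.Ab Z) (n : ℕ) (x : EtCoh.H Z F n) :
    hThen v ((EtCoh.pull u).obj F) (appOf (θPull v u w hw) F) n (EtCore.Hpull u F n x) = EtCore.Hpull w F n x := by
  refine Eq.trans ?_ ((hThen_comp v u w hw (𝟙 _) (appOf (θPull v u w hw) F) (𝟙 _) ?_ n x).trans (hThen_id w F n x))
  · rw [hThen_id]
  · rw [Category.comp_id, CategoryTheory.Functor.map_id, Category.id_comp]; rfl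

variable {S : Scheme.{u}} [CompactSpace ↥S] [QuasiSeparatedSpace ↥S]
  {ι : Type u} [Preorder ι] [IsDirected ι (· ≤ ·)] [Nonempty ι] (Xs : ιᵒᵖ ⥤ Over S)
  [hfin : ∀ i, IsFinite (Xs.obj i).hom] (c : Cone Xs) (hc : IsLimit c)

omit [CompactSpace ↥S] [QuasiSeparatedSpace ↥S] in
include hc in
theorem isIntegralHom_cone : IsIntegralHom c.pt.hom := by
  haveI : IsFiltered ι := isFiltered_index (ι := ι)
  haveI : IsCofiltered ιᵒᵖ := inferInstance
  haveI : IsConnected ιᵒᵖ := IsCofiltered.isConnected _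
  obtain ⟨i⟩ := ‹Nonempty ι›
  have h := isIntegralHom_of_isLimit_finite (Xs ⋙ Over.forget S) ((Over.forget S).mapCone c)
    (isLimitOfPreserves (Over.forget S) hc) (fun j => (Xs.obj j).hom) (fun f => Over.w (Xs.map f)) (op i)
  have e : (c.π.app (op i)).left ≫ (Xs.obj (op i)).hom = c.pt.hom := Over.w (c.π.app (op i))
  exact e ▸ h

variable [het : ∀ i, AlgebraicGeometry.Etale (Xs.obj i).hom] (ℓ : ℕ) (d : ιᵒᵖ → ℕ)

include hc in
theorem Hpull_injective (hℓ : ℓ ≠ 1) (hd : ∀ i, ℓ.Coprime (d i)) (hdeg : ∀ i, HasDegree (Xs.obj i).hom (d i))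
    {G : EtCoh.Ab S} (hG : LocPow ℓ G) (n : ℕ) [hPc : PreservesFiniteLimits (EtCoh.pull c.pt.hom)]
    (x : EtCoh.H S G n) (hx : EtCore.Hpull c.pt.hom G n x = 0) : x = 0 := by
  haveI : IsFiltered ι := isFiltered_index (ι := ι)
  haveI : IsCofiltered ιᵒᵖ := inferInstance
  haveI : IsConnected ιᵒᵖ := IsCofiltered.isConnected _
  let E := Xs ⋙ Over.forget S
  let C := (Over.forget S).mapCone c
  have hC : IsLimit C := isLimitOfPreserves (Over.forget S) hc
  have haff : ∀ ⦃a b : ιᵒᵖ⦄ (h : a ⟶ b), IsAffineHom (E.map h) := fun a b h => by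
    haveI : IsAffineHom (E.map h ≫ (Xs.obj b).hom) := by
      show IsAffineHom ((Xs.map h).left ≫ (Xs.obj b).hom)
      rw [Over.w]; infer_instance
    exact IsAffineHom.of_comp (E.map h) (Xs.obj b).hom
  haveI : ∀ a, PreservesFiniteLimits (EtCoh.pull (C.π.app a)) := fun _ => pull_preservesFiniteLimits _
  haveI : ∀ ⦃a b : ιᵒᵖ⦄ (h : a ⟶ b), PreservesFiniteLimits (EtCoh.pull (E.map h)) :=
    fun _ _ _ => pull_preservesFiniteLimits _
  haveI : ∀ j : ι, PreservesFiniteLimits (EtCoh.pull (Xs.obj (op j)).hom) := fun _ => pull_preservesFiniteLimits _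
  have hqc : ∀ a, CompactSpace ↥(E.obj a) := fun a =>
    QuasiCompact.compactSpace_of_compactSpace (Xs.obj a).hom
  have hqs : ∀ a, QuasiSeparatedSpace ↥(E.obj a) := fun a =>
    quasiSeparatedSpace_of_quasiSeparated (Xs.obj a).hom
  obtain ⟨j⟩ := ‹Nonempty ι›
  let e : ∀ i : ι, E.obj (op i) ⟶ S := fun i => (Xs.obj (op i)).hom
  have he : ∀ {i k : ι} (h : i ≤ k), tr E h ≫ e i = e k := fun h => Over.w _
  have H := genSys_comparison' E haff C hC hqc hqs e @he G c.pt.hom (fun i => Over.w (c.π.app (op i))) n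
  obtain ⟨k, hk, h0⟩ := H.2 j (EtCore.Hpull (e j) G n x)
    ((@hThen_Hpull C.pt (E.obj (op j)) S (C.π.app (op j)) (e j) c.pt.hom (Over.w (c.π.app (op j))) _ _ hPc G n x).trans hx)
  have h1 : EtCore.Hpull (e k) G n x = 0 := by
    refine (hThen_Hpull (tr E hk) (e j) (e k) (he hk) G n x).symm.trans ?_
    exact (congrArg (hmap _ n) (show EtCore.Hpull (tr E hk) _ n (EtCore.Hpull (e j) G n x) = 0 from h0)).trans (map_zero _)
  obtain ⟨d', hd'⟩ : ∃ d', d (op k) = d' + 1 := Nat.exists_eq_succ_of_ne_zero fun h0 => hℓ (by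
    have := hd (op k)
    rwa [h0, Nat.coprime_zero_right] at this)
  refine eq_zero_of_nsmul ℓ hG (d (op k)) (hd _) n x ?_
  rw [hd']
  exact nsmul_eq_zero_of_hasDegree (e k) d' (hd' ▸ hdeg (op k)) G n x h1

omit [CompactSpace ↥S] [QuasiSeparatedSpace ↥S] het in
include hc in
theorem HofPush_bijective [PreservesFiniteLimits (EtCoh.pull c.pt.hom)] (F : EtCoh.Ab c.pt.left) (n : ℕ) :
    Function.Bijective (EtLim.HofPush c.pt.hom F n) := by
  haveI := isIntegralHom_cone Xs c hc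
  refine BigSiteLib.hofPush_bijective c.pt.hom F (fun j hj => ?_) n
  obtain ⟨m, rfl⟩ := Nat.exists_eq_succ_of_ne_zero hj.ne'
  haveI := EtFound.push_preservesFiniteLimits c.pt.hom
  haveI := EtFound.push_preservesFiniteColimits c.pt.hom
  exact LerayDegen.isZero_rightDerived_of_exact (EtCoh.push c.pt.hom) _ m

end Groth.Agent.EtTrDeg11
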