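import Groth.Agent.EtTrace.Coh

/-!
# The trace of a finite étale cover of constant degree
-/

set_option autoImplicit false
set_option linter.style.haveILetI false
set_option backward.isDefEq.respectTransparency false
set_option backward.isDefEq.respectTransparency.types false

universe u

open CategoryTheory CategoryTheory.Limits AlgebraicGeometry Opposite CategoryTheory.Abelian

namespace Groth.Agent.EtTrDeg11

open Groth.Agent.EtFound Groth.Agent.EtTrace

/-- every geometric fibre has `d` points -/
def HasDegree {B W : Scheme.{u}} (f : W ⟶ B) (d : ℕ) : Prop :=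
  ∀ (Ω : Type u) [Field Ω] [IsAlgClosed Ω] (η : Spec (CommRingCat.of Ω) ⟶ B),
    Nat.card {t : Spec (CommRingCat.of Ω) ⟶ W // t ≫ f = η} = d

theorem surjective_of_hasDegree {B W : Scheme.{u}} {f : W ⟶ B} {d : ℕ} (h : HasDegree f (d + 1)) :
    Function.Surjective f.base := fun b => by
  let Ω := AlgebraicClosure (B.residueField b)
  let η : Spec (CommRingCat.of Ω) ⟶ B :=
    Spec.map (CommRingCat.ofHom (algebraMap (B.residueField b) Ω)) ≫ B.fromSpecResidueField b
  obtain ⟨⟨t, ht⟩⟩ := (Nat.card_ne_zero.1 (by rw [h Ω η]; omega : Nat.card {t // t ≫ f = η} ≠ 0)).1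
  exact ⟨t (default : Spec (CommRingCat.of Ω)), (Scheme.Hom.comp_apply _ _ _).symm.trans
    ((congrArg (fun m : Spec (CommRingCat.of Ω) ⟶ B => m (default : Spec (CommRingCat.of Ω))) ht).trans
      ((Scheme.Hom.comp_apply _ _ _).trans (Scheme.fromSpecResidueField_apply _ _)))⟩

/-- a finite étale cover of degree `d` is separated by `d` sections over a surjective étale cover -/
theorem exists_separating : ∀ (d : ℕ) {B W : Scheme.{u}} (f : W ⟶ B) [IsFinite f] [AlgebraicGeometry.Etale f],
    HasDegree f d →
    ∃ (Y : Scheme.{u}) (q : Y ⟶ B) (τ : Fin d → (Y ⟶ W)),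
      AlgebraicGeometry.Etale q ∧ Function.Surjective q.base ∧ (∀ j, τ j ≫ f = q) ∧
        ∀ (Ω : Type u) [Field Ω] [IsAlgClosed Ω] (y : Spec (CommRingCat.of Ω) ⟶ Y),
          Function.Injective (fun j => y ≫ τ j) := by
  intro d
  induction d with
  | zero =>
    intro B W f _ _ _
    exact ⟨B, 𝟙 B, fun j => Fin.elim0 j, inferInstance, fun b => ⟨b, rfl⟩, fun j => Fin.elim0 j,
      fun _ _ _ _ j => Fin.elim0 j⟩
  | succ d ih =>
    intro B W f _ _ h
    let E := pullback f f
    haveI : IsClosedImmersion (pullback.diagonal f) := inferInstance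
    haveI : IsOpenImmersion (pullback.diagonal f) := inferInstance
    let O : E.Opens := ⟨(Set.range (pullback.diagonal f))ᶜ,
      (pullback.diagonal f).isClosedEmbedding.isClosed_range.isOpen_compl⟩
    haveI : IsClosedImmersion O.ι := .of_isPreimmersion O.ι (by
      rw [Scheme.Opens.range_ι]
      exact (pullback.diagonal f).isOpenEmbedding.isOpen_range.isClosed_compl)
    let f' : (O : Scheme.{u}) ⟶ W := O.ι ≫ pullback.fst f f
    let g' : (O : Scheme.{u}) ⟶ W := O.ι ≫ pullback.snd f f
    haveI : IsFinite f' := inferInstance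
    haveI : AlgebraicGeometry.Etale f' := inferInstance
    have hne : ∀ (Ω : Type u) [Field Ω] (y : Spec (CommRingCat.of Ω) ⟶ (O : Scheme.{u})), y ≫ g' ≠ y ≫ f' := by
      intro Ω _ y hy
      have e : y ≫ O.ι = (y ≫ f') ≫ pullback.diagonal f := by
        apply pullback.hom_ext
        · simp [f']
        · rw [Category.assoc (y ≫ f'), pullback.diagonal_snd, Category.comp_id, Category.assoc]
          exact hy
      let pt : ↥(Spec (CommRingCat.of Ω)) := default
      have h1 : O.ι (y pt) ∈ (O : Set E) := (y pt).2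
      refine h1 ⟨(y ≫ f') pt, ?_⟩
      rw [← Scheme.Hom.comp_apply, ← e, Scheme.Hom.comp_apply]
    have hg : g' ≫ f = f' ≫ f := by rw [Category.assoc, Category.assoc, pullback.condition]
    have h' : HasDegree f' d := by
      intro Ω _ _ w
      classical
      have hc := h Ω (w ≫ f)
      let T := {t : Spec (CommRingCat.of Ω) ⟶ W // t ≫ f = w ≫ f}
      haveI : Finite T := Nat.finite_of_card_ne_zero (by rw [hc]; omega)
      let w₀ : T := ⟨w, rfl⟩
      let φ : {y : Spec (CommRingCat.of Ω) ⟶ (O : Scheme.{u}) // y ≫ f' = w} → {t : T // t ≠ w₀} := fun y =>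
        ⟨⟨y.1 ≫ g', by rw [Category.assoc, hg, ← Category.assoc, y.2]⟩,
          fun e => hne Ω y.1 ((congrArg Subtype.val e).trans y.2.symm)⟩
      have hφ : Function.Bijective φ := by
        refine ⟨fun y z e => Subtype.ext ((cancel_mono O.ι).1 (pullback.hom_ext ?_ ?_)), fun t => ?_⟩
        · rw [Category.assoc, Category.assoc]; exact y.2.trans z.2.symm
        · rw [Category.assoc, Category.assoc]; exact congrArg (fun s => s.1.1) e
        · let l : Spec (CommRingCat.of Ω) ⟶ E := pullback.lift w t.1.1 t.1.2.symm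
          have hr : Set.range l ⊆ Set.range O.ι := by
            rw [Scheme.Opens.range_ι]
            rintro _ ⟨x, rfl⟩ ⟨v, hv⟩
            refine t.2 (Subtype.ext ?_)
            have hr' : Set.range l ⊆ Set.range (pullback.diagonal f) := by
              rintro _ ⟨x', rfl⟩
              exact ⟨v, by rw [hv]; exact congrArg l (Subsingleton.elim (α := PrimeSpectrum Ω) x x')⟩
            have hl := IsOpenImmersion.lift_fac (pullback.diagonal f) l hr'
            have a := congrArg (· ≫ pullback.fst f f) hl
            have b := congrArg (· ≫ pullback.snd f f) hl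
            simp only [Category.assoc, pullback.diagonal_fst, pullback.diagonal_snd, Category.comp_id, l,
              pullback.lift_fst, pullback.lift_snd] at a b
            exact b.symm.trans a
          refine ⟨⟨IsOpenImmersion.lift O.ι l hr, ?_⟩, Subtype.ext (Subtype.ext ?_)⟩
          · rw [← Category.assoc, IsOpenImmersion.lift_fac]; exact pullback.lift_fst _ _ _
          · show IsOpenImmersion.lift O.ι l hr ≫ g' = t.1.1
            rw [← Category.assoc, IsOpenImmersion.lift_fac]; exact pullback.lift_snd _ _ _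
      have hopt := Nat.card_congr (Equiv.optionSubtypeNe w₀)
      rw [Finite.card_option, hc] at hopt
      rw [Nat.card_congr (Equiv.ofBijective φ hφ)]
      omega
    obtain ⟨Y, q', τ', hq', hsurj, hτ', hinj⟩ := ih f' h'
    haveI := hq'
    refine ⟨Y, q' ≫ f, Fin.cons q' fun j => τ' j ≫ g', inferInstance,
      (surjective_of_hasDegree h).comp hsurj, fun j => ?_, fun Ω _ _ y => ?_⟩
    · induction j using Fin.cases with
      | zero => rw [Fin.cons_zero]
      | succ j => rw [Fin.cons_succ, Category.assoc, hg, ← Category.assoc, hτ']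
    · intro a b
      have h0 : ∀ j, y ≫ τ' j ≫ g' ≠ y ≫ q' := fun j e => hne Ω (y ≫ τ' j) (by
        rw [Category.assoc, Category.assoc, hτ']; exact e)
      induction a using Fin.cases with
      | zero =>
        induction b using Fin.cases with
        | zero => intro _; rfl
        | succ b => simp only [Fin.cons_zero, Fin.cons_succ]; exact fun e => (h0 b e.symm).elim
      | succ a =>
        induction b using Fin.cases with
        | zero => simp only [Fin.cons_zero, Fin.cons_succ]; exact fun e => (h0 a e).elim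
        | succ b =>
          simp only [Fin.cons_succ]
          intro e
          refine congrArg Fin.succ (hinj Ω y ((cancel_mono O.ι).1 (pullback.hom_ext ?_ ?_)))
          · show ((y ≫ τ' a) ≫ O.ι) ≫ pullback.fst f f = ((y ≫ τ' b) ≫ O.ι) ≫ pullback.fst f f
            simp only [Category.assoc]
            exact (congrArg (y ≫ ·) (hτ' a)).trans (congrArg (y ≫ ·) (hτ' b)).symm
          · show ((y ≫ τ' a) ≫ O.ι) ≫ pullback.snd f f = ((y ≫ τ' b) ≫ O.ι) ≫ pullback.snd f f
            simp only [Category.assoc]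
            exact e

variable {S : Scheme.{u}}

/-- the trace -/
theorem exists_trace_of_hasDegree (W : S.Etale) [IsFinite W.hom] (d : ℕ) (hd : HasDegree W.hom (d + 1)) :
    ∃ t : freeOn (EtCoh.top S) ⟶ freeOn W,
      t ≫ freeMap ((EtCore.topIsTerminal S).from W) = (d + 1) • 𝟙 (freeOn (EtCoh.top S)) := by
  classical
  haveI : AlgebraicGeometry.Etale W.hom := W.prop
  obtain ⟨Y₀, q₀, τ₀, hq, hsurj, hτ, hinj⟩ := exists_separating (d + 1) W.hom hd
  haveI := hq
  let Y : S.Etale := Scheme.Etale.mk q₀
  let τ : Fin (d + 1) → (Y ⟶ W) := fun j => MorphismProperty.Over.homMk (τ₀ j) (hτ j)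
  let top := EtCore.topIsTerminal S
  have hsurj' : ∀ b : (EtCoh.top S).left, ∃ y : Y.left, (top.from Y).left.base y = b := by
    intro b
    obtain ⟨y, hy⟩ := hsurj b
    refine ⟨y, ?_⟩
    have e : (top.from Y).left ≫ 𝟙 S = q₀ := MorphismProperty.Over.w (top.from Y)
    have e' : (top.from Y).left = q₀ := (Category.comp_id _).symm.trans e
    exact (congrArg (fun m : Y₀ ⟶ S => m y) e').trans hy
  obtain ⟨t, ht⟩ := exists_trace (top.from W) (top.from Y) hsurj' τ (fun j => top.hom_ext _ _)
    fun V g g' _ v => by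
    let κ := V.left.residueField v
    let Ω := AlgebraicClosure κ
    let r : Spec (CommRingCat.of Ω) ⟶ Spec κ := Spec.map (CommRingCat.ofHom (algebraMap κ Ω))
    let x : Spec (CommRingCat.of Ω) ⟶ V.left := r ≫ V.left.fromSpecResidueField v
    let η := x ≫ V.hom
    let T := {t : Spec (CommRingCat.of Ω) ⟶ W.left // t ≫ W.hom = η}
    haveI : Finite T := Nat.finite_of_card_ne_zero ((hd Ω η).trans_ne (Nat.succ_ne_zero d))
    let pts : (V ⟶ Y) → Fin (d + 1) → T := fun h j => ⟨x ≫ (h ≫ τ j).left, by
      rw [Category.assoc, MorphismProperty.Over.w]⟩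
    have hb : ∀ h, Function.Bijective (pts h) := fun h => by
      refine (Nat.bijective_iff_injective_and_card _).2 ⟨fun a b e => hinj Ω (x ≫ h.left) ?_, ?_⟩
      · exact (Category.assoc _ _ _).trans ((congrArg Subtype.val e).trans (Category.assoc _ _ _).symm)
      · exact (Nat.card_fin _).trans (hd Ω η).symm
    let π : Fin (d + 1) ≃ Fin (d + 1) := (Equiv.ofBijective _ (hb g)).trans (Equiv.ofBijective _ (hb g')).symm
    haveI : Epi r := inferInstance
    obtain ⟨U, i, u, hu, hU⟩ := exists_common_nhd (fun j => g ≫ τ j) (fun j => g' ≫ τ (π j)) v fun j => by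
      have e : pts g' (π j) = pts g j := (Equiv.ofBijective _ (hb g')).apply_symm_apply _
      have e' : x ≫ (g' ≫ τ (π j)).left = x ≫ (g ≫ τ j).left := congrArg Subtype.val e
      rw [← cancel_epi r]
      simpa [x] using e'.symm
    exact ⟨U, i, u, hu, π, hU⟩
  exact ⟨t, ht.trans (by rw [Fintype.card_fin])⟩

/-- classes killed by a finite étale cover of degree `d` are killed by `d` -/
theorem nsmul_eq_zero_of_hasDegree {Z : Scheme.{u}} (f : Z ⟶ S) [IsFinite f] [AlgebraicGeometry.Etale f]
    [PreservesFiniteLimits (EtCoh.pull f)] (d : ℕ) (hd : HasDegree f (d + 1)) (F : EtCoh.Ab S) (n : ℕ)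
    (x : EtCoh.H S F n) (hx : EtCore.Hpull f F n x = 0) : (d + 1) • x = 0 := by
  let W : S.Etale := Scheme.Etale.mk f
  haveI : IsIso (𝟙 Z : Z ⟶ W.left) := IsIso.id _
  haveI : IsFinite W.hom := ‹IsFinite f›
  haveI := isIso_aug_top (X := S)
  have h0 := (Hpull_eq_zero_iff f W (𝟙 _) (Category.id_comp _) F n x).1 hx
  rw [← freeMap_aug ((EtCore.topIsTerminal S).from W), ← Ext.mk₀_comp_mk₀_assoc] at h0
  have h1 := nsmul_eq_zero_of_freeMap (exists_trace_of_hasDegree W d hd) _ h0
  refine ((injective_iff_map_eq_zero (AddMonoidHom.mk' (fun e : EtCoh.H S F n =>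
    (Ext.mk₀ (aug (EtCoh.top S))).comp e (zero_add n)) fun _ _ => Ext.comp_add _ _ _ _)).1 ?_ _ ?_)
  · intro a b e
    have := congrArg (fun y => (Ext.mk₀ (inv (aug (EtCoh.top S)))).comp y (zero_add n)) e
    simpa [Ext.mk₀_comp_mk₀_assoc, Ext.mk₀_id_comp] using this
  · rw [map_nsmul]; exact h1

end Groth.Agent.EtTrDeg11
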